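import Groth.Agent.SpDimTrdeg.Basic
import Mathlib.AlgebraicGeometry.ZariskisMainTheorem
import Mathlib.AlgebraicGeometry.Morphisms.IsIso
import Mathlib.AlgebraicGeometry.Properties

/-!
# Proper birational morphisms with `f_* O = O` are isomorphisms in codimension one
-/

set_option autoImplicit false
set_option backward.isDefEq.respectTransparency false

universe u

open CategoryTheory CategoryTheory.Limits AlgebraicGeometry TopologicalSpace

namespace Groth.Agent.BiratCodimTwo

variable {X Y : Scheme.{u}} (f : X ⟶ Y)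

/-- A finite morphism bijective on sections over opens is an isomorphism. -/
theorem isIso_restrict_of_isAffineHom (hO : ∀ U : Y.Opens, Function.Bijective (f.app U)) (V : Y.Opens)
    [IsAffineHom (f ∣_ V)] : IsIso (f ∣_ V) := by
  rw [← MorphismProperty.isomorphisms.iff,
    HasAffineProperty.iff_of_iSup_eq_top (P := MorphismProperty.isomorphisms Scheme) _ (iSup_affineOpens_eq_top _)]
  intro U
  refine ⟨U.2.preimage (f ∣_ V), ?_⟩
  rw [morphismRestrict_appTop, morphismRestrict_app]
  haveI : IsIso (f.app (V.ι ''ᵁ U.1.ι ''ᵁ ⊤)) := (ConcreteCategory.isIso_iff_bijective _).2 (hO _)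
  infer_instance

/-- Points whose fibres have no specialisations: finite. -/
theorem finite_of_no_specializations [LocallyOfFiniteType f] [QuasiCompact f] (y : Y)
    (h : ∀ x x' : X, f x = y → f x' = y → x' ⤳ x → x' = x) : (f ⁻¹' {y}).Finite := by
  haveI : LocallyOfFiniteType (f.fiberToSpecResidueField y) :=
    inferInstanceAs (LocallyOfFiniteType (pullback.snd f _))
  haveI : QuasiCompact (f.fiberToSpecResidueField y) :=
    inferInstanceAs (QuasiCompact (pullback.snd f _))
  haveI : IsLocallyNoetherian (f.fiber y) := LocallyOfFiniteType.isLocallyNoetherian (f.fiberToSpecResidueField y)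
  haveI : CompactSpace (f.fiber y) := QuasiCompact.compactSpace_of_compactSpace (f.fiberToSpecResidueField y)
  haveI : AlgebraicGeometry.IsNoetherian (f.fiber y) := {}
  have hfin : (irreducibleComponents (f.fiber y : Type u)).Finite := NoetherianSpace.finite_irreducibleComponents
  have hsub : ∀ Z ∈ irreducibleComponents (f.fiber y : Type u), Z.Subsingleton := fun Z hZ => by
    obtain ⟨η, hη⟩ := QuasiSober.sober hZ.1 (isClosed_of_mem_irreducibleComponents Z hZ)
    intro a ha b hb
    have key : ∀ c ∈ Z, c = η := fun c hc => by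
      refine (f.fiberι y).isEmbedding.injective (h (f.fiberι y c) (f.fiberι y η) ?_ ?_ ((hη.specializes hc).map (f.fiberι y).continuous)).symm
      · exact (f.range_fiberι y).le ⟨c, rfl⟩
      · exact (f.range_fiberι y).le ⟨η, rfl⟩
    rw [key a ha, key b hb]
  haveI : Finite (f.fiber y) := Set.finite_univ_iff.1
    ((hfin.biUnion fun Z hZ => (hsub Z hZ).finite).subset fun c _ =>
      Set.mem_biUnion (irreducibleComponent_mem_irreducibleComponents c) mem_irreducibleComponent)
  exact Set.finite_coe_iff.1 (Finite.of_equiv _ (f.fiberHomeo y).toEquiv)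

theorem resTrdeg_genericPoint [IsIntegral X] [IsIntegral Y] (U : Y.Opens) [IsIso (f ∣_ U)]
    (hξ : f (genericPoint X) ∈ U) : Dual3.resTrdeg f (genericPoint X) = 0 := by
  haveI : IsIso (f.stalkMap (genericPoint X)) := by
    rw [← MorphismProperty.isomorphisms.iff, ← (MorphismProperty.isomorphisms CommRingCat).arrow_mk_iso_iff
      (morphismRestrictStalkMap f U ⟨genericPoint X, hξ⟩)]
    exact inferInstanceAs (IsIso ((f ∣_ U).stalkMap _))
  rw [Dual3.resTrdeg]
  letI := (f.residueFieldMap (genericPoint X)).hom.toAlgebra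
  haveI : Algebra.IsAlgebraic (Y.residueField (f (genericPoint X))) (X.residueField (genericPoint X)) := by
    refine ⟨fun z => ?_⟩
    obtain ⟨z, rfl⟩ := X.residue_surjective _ z
    obtain ⟨w, rfl⟩ := (asIso (f.stalkMap (genericPoint X))).commRingCatIsoToRingEquiv.surjective z
    have := congr($(Scheme.residue_residueFieldMap f (genericPoint X)) w)
    exact this ▸ isAlgebraic_algebraMap (Y.residue (f (genericPoint X)) w)
  exact trdeg_eq_zero

theorem exists_nhd [IsNoetherian Y] [IsIntegral X] [IsIntegral Y] [IsProper f]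
    (hbir : ∃ U : Y.Opens, (U : Set Y).Nonempty ∧ IsIso (f ∣_ U))
    (hO : ∀ U : Y.Opens, Function.Bijective (f.app U)) (y : Y)
    (hy : ¬ 2 ≤ ringKrullDim (Y.presheaf.stalk y)) : ∃ V : Y.Opens, y ∈ V ∧ IsIso (f ∣_ V) := by
  haveI : IsLocallyNoetherian X := LocallyOfFiniteType.isLocallyNoetherian f
  obtain ⟨U, hU, hiso⟩ := hbir
  by_cases hyU : y ∈ U
  · exact ⟨U, hyU, hiso⟩
  have hηU : genericPoint Y ∈ U := ((genericPoint_spec Y).mem_open_set_iff U.2).2 (by simpa using hU)
  obtain ⟨x₀, hx₀⟩ : ∃ x, f x = genericPoint Y := by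
    obtain ⟨z, hz⟩ := (f ∣_ U).surjective ⟨genericPoint Y, hηU⟩
    exact ⟨z.1, (morphismRestrict_base_coe f U z).symm.trans (congrArg Subtype.val hz)⟩
  have hξ : f (genericPoint X) = genericPoint Y :=
    ((genericPoint_specializes (f (genericPoint X))).antisymm
      (hx₀ ▸ (genericPoint_specializes x₀).map f.continuous)).eq.symm
  obtain ⟨B, hB⟩ : ∃ B : WithBot ℕ∞, ringKrullDim (Y.presheaf.stalk y) = B := ⟨_, rfl⟩
  have hfin : (f ⁻¹' {y}).Finite := finite_of_no_specializations f y fun x x' hx hx' hsp => by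
    by_contra hne
    subst hx
    have hξne : genericPoint X ≠ x' := fun h => hyU (by rw [← hx', ← h, hξ]; exact hηU)
    have h1 : (2 : ℕ∞) ≤ Order.coheight x := by
      let s : LTSeries X := RelSeries.fromListIsChain [x, x', genericPoint X] (by simp)
        (List.IsChain.cons_cons
          (lt_of_le_not_ge (show x ≤ x' from hsp) fun h => hne (hsp.antisymm h).eq)
          (List.IsChain.cons_cons
            (lt_of_le_not_ge (show x' ≤ genericPoint X from genericPoint_specializes x') fun h =>
              hξne ((genericPoint_specializes x').antisymm h).eq) (List.IsChain.singleton _)))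
      exact Order.length_le_coheight (p := s) (x := x) (by rfl)
    obtain ⟨r, hr⟩ := SpDimTrdeg.exists_resTrdeg_eq_nat f x
    have h2 := SpDimTrdeg.dim_stalk_le f x (ringKrullDim_stalk_eq_coheight x) (rfl) hr (E := 0) fun ξ hξm _ => by
      rw [show ξ = genericPoint X from (hξm _ (genericPoint_specializes ξ)).symm]
      exact (resTrdeg_genericPoint f U (by rw [hξ]; exact hηU)).le
    rw [map_zero] at h2
    refine hy (le_trans ?_ (le_of_le_of_eq h2 (by simp)))
    calc (2 : WithBot ℕ∞) ≤ (Order.coheight x : WithBot ℕ∞) := WithBot.coe_le_coe.2 h1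
      _ ≤ _ := le_add_of_nonneg_right (by simp)
  obtain ⟨V, hyV, hV⟩ := exists_isFinite_morphismRestrict_of_finite_preimage_singleton f y hfin
  exact ⟨V, hyV, isIso_restrict_of_isAffineHom f hO V⟩

theorem isIso_iSup : IsIso (f ∣_ ⨆ W : {W : Y.Opens // IsIso (f ∣_ W)}, W.1) := by
  set V : Y.Opens := ⨆ W : {W : Y.Opens // IsIso (f ∣_ W)}, W.1
  rw [← MorphismProperty.isomorphisms.iff, IsZariskiLocalAtTarget.iff_of_iSup_eq_top
    (P := MorphismProperty.isomorphisms Scheme) (fun W : {W : Y.Opens // IsIso (f ∣_ W)} => V.ι ⁻¹ᵁ W.1)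
    (eq_top_iff.2 fun z _ => by
      obtain ⟨W, hW⟩ := Opens.mem_iSup.1 z.2
      exact Opens.mem_iSup.2 ⟨W, hW⟩)]
  intro W
  rw [(MorphismProperty.isomorphisms Scheme).arrow_mk_iso_iff (morphismRestrictRestrict f V (V.ι ⁻¹ᵁ W.1) ≪≫
    morphismRestrictEq f (show V.ι ''ᵁ V.ι ⁻¹ᵁ W.1 = W.1 by
      rw [Scheme.Hom.image_preimage_eq_opensRange_inf, Scheme.Opens.opensRange_ι]
      exact inf_eq_right.2 (le_iSup (fun W : {W : Y.Opens // IsIso (f ∣_ W)} => W.1) W)))]
  exact W.2

end Groth.Agent.BiratCodimTwo
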